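import Groth.Agent.EtAcyc.K153.TreeCurve
import Groth.Agent.SSMod.K971.EtaOpen
import Groth.Agent.SSMod.K971.BaseChange
import Groth.Agent.S3842

/-!
# Semistable reduction over an alteration of the base, from S15277

* `generic`: the generic fibre of a multipointed curve which is smooth with étale marks over a nonempty open is
  semistable.
* `ss`: the node TREE-SS of `K153.TreePlan`.
-/

set_option autoImplicit false
universe u

open CategoryTheory CategoryTheory.Limits AlgebraicGeometry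

namespace K464.TreeSS

open K153.TreeCurve

/-- Base change of a morphism to a morphism over an open subset which factors through it. -/
theorem isPullback_restrict {X B T P : Scheme.{u}} {π : X ⟶ B} {p : P ⟶ X} {q : P ⟶ T} {j : T ⟶ B}
    (sq : IsPullback p q π j) (U : B.Opens) (m : T ⟶ (U : Scheme.{u})) (hm : m ≫ U.ι = j) :
    ∃ a : P ⟶ (π ⁻¹ᵁ U : X.Opens), IsPullback a q (π ∣_ U) m := by
  have s2 := (isPullback_morphismRestrict π U).flip
  subst hm
  have h : p ≫ π = (q ≫ m) ≫ U.ι := by rw [sq.w, Category.assoc]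
  refine ⟨s2.lift p (q ≫ m) h, IsPullback.of_right (h₁₂ := (π ⁻¹ᵁ U).ι) (h₂₂ := U.ι) (v₁₃ := π) ?_
    (s2.lift_snd p (q ≫ m) h) s2⟩
  rw [s2.lift_fst]
  exact sq

/-- A smooth curve with étale marks is semistable. -/
theorem isSemistable_of_smooth {C D S : Scheme.{u}} {φ : C ⟶ S} {i : D ⟶ C} (h : SSMod.IsMPCurve φ i)
    [Smooth φ] [Etale (i ≫ φ)] : SSMod.IsSemistable φ i := by
  have h0 := h
  obtain ⟨h1, h2, h3, h4, h5, h6, h7, h8, h9⟩ := h0
  refine ⟨h, ⟨h1, h2, fun s => ⟨h5 s, ?_⟩⟩, inferInstance, ?_⟩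
  · intro x hx
    refine Or.inl ⟨⊤, trivial, ?_⟩
    have : Smooth (φ.fiberToSpecResidueField s) :=
      inferInstanceAs (Smooth (pullback.snd φ (S.fromSpecResidueField s)))
    change Smooth ((⊤ : (φ.fiber s).Opens).ι ≫ φ.fiberToSpecResidueField s)
    infer_instance
  · rw [Set.disjoint_left]
    intro x _ hx
    refine hx ((Groth.Agent.UnramA.NearPoint.exists_smooth_nhd_iff φ x).1 ⟨⊤, trivial, ?_⟩)
    infer_instance

/-- The generic fibre of a curve with `PreCurve` is semistable. -/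
theorem generic {B X D : Scheme.{u}} [IsIntegral B] (π : X ⟶ B) (i : D ⟶ X)
    (hC : SSMod.IsMPCurve π i) (U : B.Opens) (h : PreCurve π i U) :
    SSMod.IsSemistable (pullback.snd π (B.fromSpecStalk (genericPoint B)))
      (CInt.baseChangeOver i π (B.fromSpecStalk (genericPoint B))) := by
  have hη : genericPoint B ∈ U := (genericPoint_spec B).mem_open_set_iff U.isOpen |>.2
    (by rw [Set.univ_inter]; exact h.nonempty)
  obtain ⟨m, hm⟩ := K971.EtaOpen.exists_fromSpecStalk U _ hη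
  set j := B.fromSpecStalk (genericPoint B) with hj
  have sq : IsPullback (pullback.fst π j) (pullback.snd π j) π j := IsPullback.of_hasPullback _ _
  have sqD : IsPullback (pullback.fst (i ≫ π) j) (pullback.snd (i ≫ π) j) (i ≫ π) j :=
    IsPullback.of_hasPullback _ _
  have e1 : CInt.baseChangeOver i π j ≫ pullback.snd π j = pullback.snd (i ≫ π) j :=
    (pullback.lift_snd _ _ _).trans (Category.comp_id _)
  have e2 : CInt.baseChangeOver i π j ≫ pullback.fst π j = pullback.fst (i ≫ π) j ≫ i :=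
    pullback.lift_fst _ _ _
  have sqi : IsPullback (pullback.fst (i ≫ π) j) (CInt.baseChangeOver i π j) i (pullback.fst π j) := by
    refine IsPullback.of_bot (h₃₁ := j) (v₂₁ := pullback.snd π j) (v₂₂ := π) ?_ e2.symm sq
    rw [e1]
    exact sqD
  obtain ⟨a, ha⟩ := isPullback_restrict sq U m hm
  obtain ⟨b, hb⟩ := isPullback_restrict sqD U m hm
  have hs : Smooth (pullback.snd π j) := MorphismProperty.of_isPullback ha h.smooth
  have he : Etale (CInt.baseChangeOver i π j ≫ pullback.snd π j) := by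
    rw [e1]
    exact MorphismProperty.of_isPullback hb h.etale
  exact isSemistable_of_smooth (K971.SSBaseChange.isMPCurve_of_isPullback hC sq sqi)

/-- A modification is surjective. -/
theorem surjective_of_isModification {X Y : Scheme.{u}} {f : X ⟶ Y} (h : SSMod.IsModification f) :
    Surjective f := by
  obtain ⟨hp, U, hU, _, hi⟩ := h
  refine ⟨?_⟩
  have h1 : (U : Set Y) ⊆ Set.range f := by
    intro y hy
    have hs : Surjective (f ∣_ U) := inferInstance
    obtain ⟨x, hx⟩ := hs.surj ⟨y, hy⟩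
    refine ⟨(f ⁻¹ᵁ U).ι x, ?_⟩
    rw [← Scheme.Hom.comp_apply, ← morphismRestrict_ι, Scheme.Hom.comp_apply, hx]
    rfl
  have h2 : Dense (Set.range f) := (Groth.Agent.S3842.dense_of_isSchematicallyDense U hU).mono h1
  have h3 : IsClosed (Set.range f) := f.isClosedMap.isClosed_range
  rw [← Set.range_eq_univ, ← h3.closure_eq, h2.closure_eq]

theorem surjective_of_isAlteration {X Y : Scheme.{u}} {f : X ⟶ Y} (h : Curv2.IsAlteration f) :
    Surjective f := by
  obtain ⟨hp, _, _, hd, _⟩ := h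
  refine ⟨?_⟩
  have h2 : Dense (Set.range f) := hd.denseRange
  have h3 : IsClosed (Set.range f) := f.isClosedMap.isClosed_range
  rw [← Set.range_eq_univ, ← h3.closure_eq, h2.closure_eq]

/-- A morphism is injective over an open over which it is an isomorphism. -/
theorem eq_of_isIso {X Y : Scheme.{u}} (f : X ⟶ Y) (V : Y.Opens) [IsIso (f ∣_ V)] (a b : X) (hab : f a = f b)
    (hb : f b ∈ V) : a = b := by
  have ha : f a ∈ V := by rw [hab]; exact hb
  have k1 : ∀ w : (↑(f ⁻¹ᵁ V) : Scheme.{u}), V.ι ((f ∣_ V) w) = f ((f ⁻¹ᵁ V).ι w) := fun w => by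
    rw [← Scheme.Hom.comp_apply, ← Scheme.Hom.comp_apply, morphismRestrict_ι]
  have ra : a ∈ Set.range (f ⁻¹ᵁ V).ι := by rw [Scheme.Opens.range_ι]; exact ha
  have rb : b ∈ Set.range (f ⁻¹ᵁ V).ι := by rw [Scheme.Opens.range_ι]; exact hb
  obtain ⟨a, rfl⟩ := ra
  obtain ⟨b, rfl⟩ := rb
  rw [← k1, ← k1] at hab
  exact congrArg _ ((f ∣_ V).isOpenEmbedding.injective (V.ι.isOpenEmbedding.injective hab))

/-- TREE-SS. Semistable reduction: from `H15277`. -/
theorem ss (H : H15277.{u}) {B X D : Scheme.{u}} [IsIntegral B] [IsNoetherian B] [IsIntegral X] (π : X ⟶ B)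
    (i : D ⟶ X) (hC : SSMod.IsMPCurve π i) (U : B.Opens) (h : PreCurve π i U) :
    ∃ (B₃ C D' : Scheme.{u}) (_ : IsIntegral B₃) (b : B₃ ⟶ B) (g : C ⟶ X) (π' : C ⟶ B₃) (i' : D' ⟶ C)
      (U₃ : B₃.Opens), IsProper b ∧ Surjective b ∧
      (∃ W : B.Opens, (W : Set B).Nonempty ∧ IsFinite (b ∣_ W)) ∧ IsProper g ∧ Surjective g ∧ g ≫ π = π' ≫ b ∧
      SSMod.IsSemistable π' i' ∧ (U₃ : Set B₃).Nonempty ∧ Smooth (π' ∣_ U₃) ∧
      ∀ x : C, π' x ∈ U₃ → g x ∈ Set.range i → x ∈ Set.range i' := by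
  obtain ⟨B₃, hB₃, b, V, hb, hV, hbV, C, D', i', fC, fD, hst, hC', hD'⟩ := H π i hC (generic π i hC U h)
  obtain ⟨⟨⟨hw, hmp, hmC, hmD⟩, hss⟩, -⟩ := hst
  have hbp : IsProper b := hb.1
  have hbs : Surjective b := surjective_of_isAlteration hb
  have hfCp : IsProper fC := hmC.1
  have hfCs : Surjective fC := surjective_of_isModification hmC
  have hfDs : Surjective fD := surjective_of_isModification hmD
  have hπlfp : LocallyOfFinitePresentation π := hC.2.1
  have hπqc : QuasiCompact π := hC.2.2.1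
  have hB₃ln : IsLocallyNoetherian B₃ := LocallyOfFiniteType.isLocallyNoetherian b
  have hB₃c : CompactSpace B₃ := QuasiCompact.compactSpace_of_compactSpace b
  have hB₃n : IsNoetherian B₃ := {}
  obtain ⟨U₁, hU₁, hiso⟩ := K971.EtaOpen.exists_isoOver hC'
  rw [K971.IsoOver.iff_restrict] at hiso
  -- the preimage of `U`
  have hb_gen : genericPoint B₃ ∈ b ⁻¹ᵁ U := by
    have hne : ((b ⁻¹ᵁ U : B₃.Opens) : Set B₃).Nonempty := by
      obtain ⟨y, hy⟩ := h.nonempty
      obtain ⟨x, hx⟩ := hbs.surj y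
      exact ⟨x, by change b x ∈ U; rw [hx]; exact hy⟩
    exact ((genericPoint_spec B₃).mem_open_set_iff (b ⁻¹ᵁ U).isOpen).2
      (by rw [Set.univ_inter]; exact hne)
  let U₃ : B₃.Opens := U₁ ⊓ b ⁻¹ᵁ U
  have hiso3 : IsIso (fC ∣_ (pullback.snd π b ⁻¹ᵁ U₃)) :=
    K971.MProd.isIso_restrict_of_le (U := pullback.snd π b ⁻¹ᵁ U₁) (fun x hx => hx.1)
  refine ⟨B₃, C, D', hB₃, b, fC ≫ pullback.fst π b, fC ≫ pullback.snd π b, i', U₃, hbp, hbs, hb.2.2.2.2,
    inferInstance, inferInstance, ?_, hss, ⟨_, hU₁, hb_gen⟩, ?_, ?_⟩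
  · rw [Category.assoc, Category.assoc, pullback.condition]
  · -- smoothness
    have sq : IsPullback (pullback.fst π b) (pullback.snd π b) π b := IsPullback.of_hasPullback _ _
    have hs : Smooth (pullback.snd π b ∣_ U₃) := by
      have s1 := isPullback_morphismRestrict (pullback.snd π b) U₃
      have s2 : IsPullback ((pullback.snd π b ⁻¹ᵁ U₃).ι ≫ pullback.fst π b)
        (pullback.snd π b ∣_ U₃) π (U₃.ι ≫ b) := s1.flip.paste_horiz sq
      obtain ⟨a, ha⟩ := isPullback_restrict s2 U (B₃.homOfLE (inf_le_right : U₃ ≤ b ⁻¹ᵁ U) ≫ (b ∣_ U)) (by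
        rw [Category.assoc, morphismRestrict_ι, Scheme.homOfLE_ι_assoc])
      exact MorphismProperty.of_isPullback ha h.smooth
    have h1 : Smooth (fC ∣_ (pullback.snd π b ⁻¹ᵁ U₃)) := inferInstance
    rw [morphismRestrict_comp]
    exact MorphismProperty.comp_mem (@Smooth.{u}) _ _ h1 hs
  · -- the marks
    intro x hx hgx
    have sq : IsPullback (pullback.fst π b) (pullback.snd π b) π b := IsPullback.of_hasPullback _ _
    have sqD : IsPullback (pullback.fst (i ≫ π) b) (pullback.snd (i ≫ π) b) (i ≫ π) b :=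
      IsPullback.of_hasPullback _ _
    have e1 : CInt.baseChangeOver i π b ≫ pullback.snd π b = pullback.snd (i ≫ π) b :=
      (pullback.lift_snd _ _ _).trans (Category.comp_id _)
    have e2 : CInt.baseChangeOver i π b ≫ pullback.fst π b = pullback.fst (i ≫ π) b ≫ i :=
      pullback.lift_fst _ _ _
    have sqi : IsPullback (pullback.fst (i ≫ π) b) (CInt.baseChangeOver i π b) i (pullback.fst π b) := by
      refine IsPullback.of_bot (h₃₁ := b) (v₂₁ := pullback.snd π b) (v₂₂ := π) ?_ e2.symm sq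
      rw [e1]
      exact sqD
    obtain ⟨d, hd⟩ := hgx
    obtain ⟨z, -, hz⟩ := Scheme.exists_preimage_of_isPullback sqi d (fC x) (by
      rw [hd, Scheme.Hom.comp_apply])
    obtain ⟨d', rfl⟩ := hfDs.surj z
    have h1 : fC (i' d') = fC x := by
      rw [← hz, ← Scheme.Hom.comp_apply, hw, Scheme.Hom.comp_apply]
    exact ⟨d', eq_of_isIso fC (pullback.snd π b ⁻¹ᵁ U₃) _ _ h1 hx⟩

end K464.TreeSS
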